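import Mathlib

/-!
# The top exterior power of a stably free module
-/

set_option autoImplicit false

set_option maxHeartbeats 1000000

namespace Groth.Agent.ExtCancel

open ExteriorAlgebra

universe u

variable {R : Type u} [CommRing R] {M : Type u} [AddCommGroup M] [Module R M]
  {Q : Type u} [AddCommGroup Q] [Module R Q]

/-- `M` behaves like a module of constant rank `n` with trivial determinant. -/
def Top (R : Type u) [CommRing R] (M : Type u) [AddCommGroup M] [Module R M] (n : ℕ) : Prop :=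
  Nonempty (⋀[R]^n M ≃ₗ[R] R) ∧ ∀ j, n < j → ∀ z ∈ (⋀[R]^j M), z = 0

theorem map_mem {N : Type u} [AddCommGroup N] [Module R N] (f : M →ₗ[R] N) {j : ℕ}
    {x : ExteriorAlgebra R M} (hx : x ∈ (⋀[R]^j M)) : ExteriorAlgebra.map f x ∈ (⋀[R]^j N) := by
  have h1 : ExteriorAlgebra.map f x ∈
      ((⋀[R]^j M) : Submodule R (ExteriorAlgebra R M)).map (ExteriorAlgebra.map f).toLinearMap :=
    Submodule.mem_map_of_mem hx
  rw [Submodule.map_pow] at h1
  have h2 : ∀ A B : Submodule R (ExteriorAlgebra R N), A ≤ B → A ^ j ≤ B ^ j := fun A B h => pow_le_pow_left' h j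
  refine h2 _ _ ?_ h1
  rintro _ ⟨_, ⟨m, rfl⟩, rfl⟩
  exact ⟨f m, (map_apply_ι f m).symm⟩

/-- Multiplication by the distinguished vector. -/
noncomputable def up : ExteriorAlgebra R Q →ₗ[R] ExteriorAlgebra R (R × Q) :=
  (LinearMap.mulLeft R (ι R ((1, 0) : R × Q))) ∘ₗ (ExteriorAlgebra.map (LinearMap.inr R R Q)).toLinearMap

/-- Contraction with the first coordinate, followed by projection. -/
noncomputable def down : ExteriorAlgebra R (R × Q) →ₗ[R] ExteriorAlgebra R Q :=
  (ExteriorAlgebra.map (LinearMap.snd R R Q)).toLinearMap ∘ₗ CliffordAlgebra.contractLeft (LinearMap.fst R R Q)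

theorem down_ι_mul (a : R × Q) (z : ExteriorAlgebra R (R × Q)) :
    down (ι R a * z) = a.1 • ExteriorAlgebra.map (LinearMap.snd R R Q) z - ι R a.2 * down z := by
  simp only [down, LinearMap.comp_apply]
  rw [ExteriorAlgebra.ι, CliffordAlgebra.contractLeft_ι_mul, map_sub, map_smul]
  simp only [AlgHom.toLinearMap_apply, map_mul, map_apply_ι]
  rfl

theorem down_algebraMap (r : R) : down (algebraMap R (ExteriorAlgebra R (R × Q)) r) = 0 := by
  simp [down, CliffordAlgebra.contractLeft_algebraMap]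

theorem contract_map_inr (x : ExteriorAlgebra R Q) :
    down (ExteriorAlgebra.map (LinearMap.inr R R Q) x) = 0 := by
  induction x using CliffordAlgebra.left_induction with
  | algebraMap r => rw [AlgHom.commutes, down_algebraMap]
  | add x y hx hy => rw [map_add, map_add, hx, hy, add_zero]
  | ι_mul z m hz =>
    rw [map_mul, map_apply_ι, down_ι_mul, hz, mul_zero, sub_zero, LinearMap.inr_apply]
    exact zero_smul _ _

theorem map_snd_inr (x : ExteriorAlgebra R Q) :
    ExteriorAlgebra.map (LinearMap.snd R R Q) (ExteriorAlgebra.map (LinearMap.inr R R Q) x) = x := by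
  rw [← AlgHom.comp_apply, ExteriorAlgebra.map_comp_map, LinearMap.snd_comp_inr, ExteriorAlgebra.map_id,
    AlgHom.id_apply]

theorem down_up (x : ExteriorAlgebra R Q) : down (up x) = x := by
  rw [up, LinearMap.comp_apply, LinearMap.mulLeft_apply, AlgHom.toLinearMap_apply, down_ι_mul,
    contract_map_inr, mul_zero, sub_zero, map_snd_inr, one_smul]

theorem decomp (z : ExteriorAlgebra R (R × Q)) :
    z = up (down z) + ExteriorAlgebra.map (LinearMap.inr R R Q) (ExteriorAlgebra.map (LinearMap.snd R R Q) z) := by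
  induction z using CliffordAlgebra.left_induction with
  | algebraMap r => rw [down_algebraMap, map_zero, zero_add, AlgHom.commutes, AlgHom.commutes]
  | add x y hx hy =>
    conv_lhs => rw [hx, hy]
    simp only [map_add]; abel
  | ι_mul z a hz =>
    have he : ι R a = a.1 • ι R ((1, 0) : R × Q) + ι R ((0, a.2) : R × Q) := by
      rw [← map_smul, ← map_add]; congr 1; ext <;> simp
    have hsw : ι R ((0, a.2) : R × Q) * ι R ((1, 0) : R × Q) = -(ι R ((1, 0) : R × Q) * ι R ((0, a.2) : R × Q)) :=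
      eq_neg_of_add_eq_zero_left (ι_add_mul_swap _ _)
    rw [down_ι_mul, map_mul, map_apply_ι, map_mul, map_apply_ι]
    conv_lhs => rw [hz]
    simp only [up, LinearMap.comp_apply, LinearMap.mulLeft_apply, AlgHom.toLinearMap_apply, map_sub, map_smul,
      map_mul, map_apply_ι, LinearMap.inr_apply, LinearMap.snd_apply]
    set e := ι R ((1, 0) : R × Q)
    set b := ι R ((0, a.2) : R × Q)
    set G := ExteriorAlgebra.map (LinearMap.inr R R Q) (down z)
    set S := ExteriorAlgebra.map (LinearMap.inr R R Q) (ExteriorAlgebra.map (LinearMap.snd R R Q) z)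
    rw [show (CliffordAlgebra.ι (0 : QuadraticForm R (R × Q)) a) = ι R a from rfl, he, add_mul, mul_add, mul_add,
      smul_mul_assoc, smul_mul_assoc, ← mul_assoc e e G, show e * e = 0 from ι_sq_zero _, zero_mul, smul_zero,
      zero_add, ← mul_assoc b e G, hsw, neg_mul, mul_assoc e b G]
    abel

theorem up_mem {j : ℕ} {x : ExteriorAlgebra R Q} (hx : x ∈ (⋀[R]^j Q)) : up x ∈ (⋀[R]^(j + 1) (R × Q)) := by
  show _ ∈ LinearMap.range (ι R) ^ (j + 1)
  rw [pow_succ']
  exact Submodule.mul_mem_mul (LinearMap.mem_range_self _ _) (map_mem _ hx)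

theorem down_mem : ∀ {j : ℕ} {z : ExteriorAlgebra R (R × Q)}, z ∈ (⋀[R]^(j + 1) (R × Q)) →
    down z ∈ (⋀[R]^j Q) := by
  intro j
  induction j with
  | zero =>
    intro z hz
    rw [exteriorPower, pow_one] at hz
    obtain ⟨a, rfl⟩ := hz
    rw [← mul_one (ι R a), down_ι_mul, ← map_one (algebraMap R (ExteriorAlgebra R (R × Q))), down_algebraMap,
      mul_zero, sub_zero, AlgHom.commutes, exteriorPower, pow_zero]
    exact Submodule.smul_mem _ _ (Submodule.one_le.1 le_rfl)
  | succ j ih =>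
    intro z hz
    rw [exteriorPower, pow_succ'] at hz
    refine Submodule.mul_induction_on hz ?_ (fun x y hx hy => by rw [map_add]; exact add_mem hx hy)
    rintro _ ⟨a, rfl⟩ w hw
    rw [down_ι_mul]
    refine sub_mem (Submodule.smul_mem _ _ (map_mem _ hw)) ?_
    show _ ∈ LinearMap.range (ι R) ^ (j + 1)
    rw [pow_succ']
    exact Submodule.mul_mem_mul (LinearMap.mem_range_self _ _) (ih hw)

/-- `up` on exterior powers. -/
noncomputable def upPow (j : ℕ) : ⋀[R]^j Q →ₗ[R] ⋀[R]^(j + 1) (R × Q) :=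
  LinearMap.restrict up fun _ hx => up_mem hx

theorem bijective_upPow {n : ℕ} (hQ : ∀ z ∈ (⋀[R]^(n + 1) Q), z = 0) :
    Function.Bijective (upPow (R := R) (Q := Q) n) := by
  refine ⟨fun x y h => Subtype.ext ?_, fun z => ⟨⟨down z.1, down_mem z.2⟩, Subtype.ext ?_⟩⟩
  · rw [← down_up x.1, ← down_up y.1]
    exact congrArg down (congrArg Subtype.val h)
  · show up (down z.1) = z.1
    conv_rhs => rw [decomp z.1, hQ _ (map_mem _ z.2), map_zero, add_zero]

theorem top_of_prod {n : ℕ} (h : Top R (R × Q) (n + 1)) : Top R Q n := by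
  have hzero : ∀ j, n < j → ∀ z ∈ (⋀[R]^j Q), z = 0 := fun j hj z hz => by
    rw [← down_up z, h.2 (j + 1) (by omega) _ (up_mem hz), map_zero]
  obtain ⟨e⟩ := h.1
  exact ⟨⟨(LinearEquiv.ofBijective _ (bijective_upPow (hzero _ (Nat.lt_succ_self n)))).trans e⟩, hzero⟩

theorem prod_of_top {n : ℕ} (h : Top R Q n) : Top R (R × Q) (n + 1) := by
  obtain ⟨e⟩ := h.1
  refine ⟨⟨(LinearEquiv.ofBijective _ (bijective_upPow (h.2 _ (Nat.lt_succ_self n)))).symm.trans e⟩,
    fun j hj z hz => ?_⟩
  obtain ⟨j, rfl⟩ : ∃ j', j = j' + 1 := ⟨j - 1, by omega⟩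
  rw [decomp z, h.2 j (by omega) _ (down_mem hz), h.2 (j + 1) (by omega) _ (map_mem _ hz), map_zero, map_zero,
    add_zero]

theorem top_congr {N : Type u} [AddCommGroup N] [Module R N] (e : M ≃ₗ[R] N) {n : ℕ} (h : Top R M n) :
    Top R N n := by
  obtain ⟨c⟩ := h.1
  let E : ⋀[R]^n M ≃ₗ[R] ⋀[R]^n N :=
    LinearEquiv.ofLinear (exteriorPower.map n e.toLinearMap) (exteriorPower.map n e.symm.toLinearMap)
      (by rw [← exteriorPower.map_comp]; simp [exteriorPower.map_id])
      (by rw [← exteriorPower.map_comp]; simp [exteriorPower.map_id])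
  refine ⟨⟨E.symm.trans c⟩, fun j hj z hz => ?_⟩
  have h1 := h.2 j hj _ (map_mem e.symm.toLinearMap hz)
  have h2 := congrArg (ExteriorAlgebra.map e.toLinearMap) h1
  rw [← AlgHom.comp_apply, ExteriorAlgebra.map_comp_map, map_zero] at h2
  simpa [ExteriorAlgebra.map_id] using h2

theorem top_of_subsingleton [Subsingleton M] : Top R M 0 := by
  refine ⟨⟨exteriorPower.zeroEquiv R M⟩, fun j hj z hz => ?_⟩
  obtain ⟨j, rfl⟩ : ∃ j', j = j' + 1 := ⟨j - 1, by omega⟩
  rw [exteriorPower, pow_succ'] at hz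
  refine Submodule.mul_induction_on hz ?_ (fun x y hx hy => by rw [hx, hy, add_zero])
  rintro _ ⟨a, rfl⟩ w _
  rw [Subsingleton.elim a 0, map_zero, zero_mul]

theorem top_pi : ∀ n : ℕ, Top R (Fin n → R) n
  | 0 => top_of_subsingleton
  | n + 1 => top_congr (Fin.consLinearEquiv R fun _ => R) (prod_of_top (top_pi n))

theorem top_of_pi_prod {Q : Type u} [AddCommGroup Q] [Module R Q] :
    ∀ (r n : ℕ), r ≤ n → Top R ((Fin r → R) × Q) n → Top R Q (n - r)
  | 0, n, _, h => by rw [Nat.sub_zero]; exact top_congr LinearEquiv.uniqueProd h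
  | r + 1, n + 1, hr, h => by
    rw [Nat.succ_sub_succ]
    refine top_of_pi_prod r n (by omega) (top_of_prod (top_congr ?_ h))
    exact ((Fin.consLinearEquiv R fun _ => R).symm.prodCongr (LinearEquiv.refl R Q)).trans
      (LinearEquiv.prodAssoc R R (Fin r → R) Q)

/-- A module with a free complement of rank `r` in a free module of rank `n` has trivial top
exterior power. -/
theorem nonempty_equiv {Q : Type u} [AddCommGroup Q] [Module R Q] {r n : ℕ} (hrn : r ≤ n)
    (e : (Fin n → R) ≃ₗ[R] (Fin r → R) × Q) : Nonempty (⋀[R]^(n - r) Q ≃ₗ[R] R) :=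
  (top_of_pi_prod r n hrn (top_congr e (top_pi n))).1

end Groth.Agent.ExtCancel
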